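import Cfsg.Agent.Lib.SmallBlocks.Main
import Cfsg.Agent.Lib.CyclicCorner.Degrees

/-!
# A block of rank one with at most four characters has as many characters as defect elements
-/

set_option autoImplicit false
set_option linter.unusedSectionVars false
set_option linter.style.haveILetI false

namespace Cfsg.Agent.Lib.SmallBlocks

open Cfsg Cfsg.Agent.Lib.Blocks Cfsg.Agent.Lib.BrauerStar Cfsg.Agent.Lib.Characters
  Cfsg.Agent.Lib.CyclicCorner MonoidAlgebra

universe u

variable {G : Type u} [Group G] [Fintype G] {M : Ideal AlgInt} [hMp : M.IsPrime] {p : ℕ}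
variable {B : Set (IrrCharacter G)} {D : Subgroup G}

local notation "Stop" => (⊤ : Subalgebra (locSubring M) (RG M G))
local notation "kG" => MonoidAlgebra (ResField M) G

theorem coeff_mul_one_comm {k : Type*} [Field k] (x y : MonoidAlgebra k G) :
    (x * y).coeff 1 = (y * x).coeff 1 := by
  classical
  induction x using MonoidAlgebra.induction_linear with
  | zero => simp
  | add a b ha hb => simp only [add_mul, mul_add, MonoidAlgebra.coeff_add, Finsupp.add_apply, ha, hb]
  | single g r =>
    induction y using MonoidAlgebra.induction_linear with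
    | zero => simp
    | add a b ha hb =>
      simp only [add_mul, mul_add, MonoidAlgebra.coeff_add, Finsupp.add_apply, ha, hb]
    | single h s =>
      simp only [MonoidAlgebra.single_mul_single, MonoidAlgebra.coeff_single, Finsupp.single_apply,
        mul_comm r s]
      exact if_congr (mul_eq_one_comm (a := g) (b := h)) rfl rfl

theorem eq_zero_of_coeff_mul_one {k : Type*} [Field k] (x : MonoidAlgebra k G)
    (h : ∀ g : G, (x * single g 1).coeff 1 = 0) : x = 0 := by
  classical
  have hcoef : ∀ (g : G), (x * single g⁻¹ 1).coeff 1 = x.coeff g := by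
    intro g
    clear h
    induction x using MonoidAlgebra.induction_linear with
    | zero => simp
    | add a b ha hb => simp only [add_mul, MonoidAlgebra.coeff_add, Finsupp.add_apply, ha, hb]
    | single h r =>
      simp only [MonoidAlgebra.single_mul_single, MonoidAlgebra.coeff_single, Finsupp.single_apply,
        mul_one]
      exact if_congr mul_inv_eq_one rfl rfl
  ext g
  rw [← hcoef, h]
  simp

/-- The reduced corner of a primitive idempotent is local and symmetric. -/
theorem exists_localCorner {i : RG M G} (hi : IsPrimIn Stop i) :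
    ∃ (J : Submodule (ResField M) kG) (t : kG →ₗ[ResField M] ResField M),
      LocalCorner (cornerOf (k := ResField M) (redG G M i)) J (redG G M i) t := by
  classical
  set S : Subalgebra (locSubring M) (RG M G) := ⊤
  have hS : MonicSplits (locSubring M) := monicSplits_locSubring
  set ib := redG G M i with hib
  set L := cornerOf (k := ResField M) ib with hL
  let ε : kG →ₗ[ResField M] ResField M :=
    { toFun := fun z => ∑ g : G, z.coeff g * rho S i (sand i (el g))
      map_add' := fun a b => by simp [add_mul, Finset.sum_add_distrib]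
      map_smul' := fun c a => by simp [Finset.mul_sum, mul_assoc] }
  have hε : ∀ a : RG M G, ε (redG G M a) = rho S i (sand i a) := by
    intro a
    induction a using MonoidAlgebra.induction_linear with
    | zero =>
      rw [map_zero, map_zero, map_zero,
        rho_zero_of_nonunit hS hi ⟨Algebra.mem_top, mul_zero i, zero_mul i⟩ hi.not_isUnitIn_zero]
    | single g r =>
      have e : single g r = r • (el g : RG M G) := by
        rw [el, MonoidAlgebra.of_apply, MonoidAlgebra.smul_single', mul_one]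
      have hr : rho S i (r • i) = red M r := rho_eq hS hi (inCorner_smul hi r)
        (by rw [sub_self]; exact hi.not_isUnitIn_zero)
      rw [e, map_smul (sand i), show r • sand i (el g) = (r • i) * sand i (el g) by
          rw [smul_mul_assoc, (inCorner_sand hi _).2.1],
        rho_mul hS hi (inCorner_smul hi r) (inCorner_sand hi _), hr, redG_smul, redG_el]
      show ∑ h : G, _ = _
      rw [Finset.sum_eq_single g]
      · simp
      · intro h _ hne
        simp [Finsupp.single_eq_of_ne hne]
      · simp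
    | add a b ha hb => rw [map_add, map_add, map_add, ha, hb,
        rho_add hS hi (inCorner_sand hi _) (inCorner_sand hi _)]
  have hsand : ∀ a : RG M G, redG G M (sand i a) = ib * redG G M a * ib :=
    fun a => by rw [sand_apply, map_mul, map_mul]
  have hfixS : ∀ {a : RG M G}, InCorner S i i a → sand i a = a := fun ha => by
    rw [sand_apply, ha.2.1, ha.2.2]
  have hidem : ib * ib = ib := by rw [hib, ← map_mul, hi.idem]
  have hlift : ∀ a ∈ L,
      ∃ a', InCorner S i i a' ∧ redG G M a' = a ∧ ε a = rho S i a' := fun a ha => by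
    rw [hL, mem_cornerOf hidem] at ha
    obtain ⟨a₀, rfl⟩ := redG_surjective (M := M) a
    refine ⟨sand i a₀, inCorner_sand hi a₀, by rw [hsand, ha], hε a₀⟩
  have hmul_i : ∀ x ∈ L, x * ib = x := fun x hx => by
    rw [hL, mem_cornerOf hidem] at hx
    rw [← hx, mul_assoc, hidem]
  have hi_mul : ∀ x ∈ L, ib * x = x := fun x hx => by
    rw [hL, mem_cornerOf hidem] at hx
    rw [← hx, show ib * (ib * x * ib) = ib * ib * x * ib by simp only [mul_assoc], hidem]
  have hLmul : ∀ x ∈ L, ∀ y ∈ L, x * y ∈ L := fun x hx y hy => by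
    rw [hL, mem_cornerOf hidem, ← mul_assoc, hi_mul x hx, mul_assoc, hmul_i y hy]
  have hiL : ib ∈ L := by rw [hL, mem_cornerOf hidem, hidem, hidem]
  have hεi : ε ib = 1 := by rw [hib, hε, hfixS (inCorner_self hi), rho_self hS hi]
  have hεmul : ∀ a ∈ L, ∀ b ∈ L, ε (a * b) = ε a * ε b := fun a ha b hb => by
    obtain ⟨a', hac, ha', hae⟩ := hlift a ha
    obtain ⟨b', hbc, hb', hbe⟩ := hlift b hb
    rw [hae, hbe, ← ha', ← hb', ← map_mul, hε, hfixS (hac.mul hbc), rho_mul hS hi hac hbc]
  set J := L ⊓ LinearMap.ker ε with hJ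
  have hJm : ∀ x, x ∈ J ↔ x ∈ L ∧ ε x = 0 := fun x => by
    rw [hJ, Submodule.mem_inf, LinearMap.mem_ker]
  let t : kG →ₗ[ResField M] ResField M :=
    { toFun := fun z => z.coeff 1
      map_add' := fun a b => by simp
      map_smul' := fun c a => by simp }
  refine ⟨J, t,
    { i_mem := hiL
      J_le := inf_le_left
      i_mul := hi_mul
      mul_i := hmul_i
      split := fun x hx => ⟨ε x, (hJm _).2 ⟨sub_mem hx (Submodule.smul_mem _ _ hiL),
        by rw [map_sub, map_smul, hεi, smul_eq_mul, mul_one, sub_self]⟩⟩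
      i_not_mem := fun h => one_ne_zero (hεi.symm.trans ((hJm _).1 h).2)
      J_sq := Submodule.mul_le.2 fun a ha b hb => (hJm _).2 ⟨hLmul a ((hJm a).1 ha).1 b
        ((hJm b).1 hb).1, by rw [hεmul a ((hJm a).1 ha).1 b ((hJm b).1 hb).1, ((hJm a).1 ha).2,
          zero_mul]⟩
      nil := ?_
      symm := fun x y => coeff_mul_one_comm x y
      nondeg := fun x hx h => eq_zero_of_coeff_mul_one x fun g => ?_ }⟩
  · refine exists_pow_eq_bot inf_le_left (Submodule.mul_le.2 hLmul) (Submodule.mul_le.2
      fun a ha b hb => (hJm _).2 ⟨hLmul a ((hJm a).1 ha).1 b ((hJm b).1 hb).1, ?_⟩)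
      (Submodule.mul_le.2 fun a ha b hb => (hJm _).2 ⟨hLmul a ((hJm a).1 ha).1 b hb, ?_⟩)
      hiL hi_mul fun j hj => ?_
    · rw [hεmul a ((hJm a).1 ha).1 b ((hJm b).1 hb).1, ((hJm a).1 ha).2, zero_mul]
    · rw [hεmul a ((hJm a).1 ha).1 b hb, ((hJm a).1 ha).2, zero_mul]
    · obtain ⟨a', hac, ha', hae⟩ := hlift (ib - j) (sub_mem hiL ((hJm j).1 hj).1)
      rw [map_sub, hεi, ((hJm j).1 hj).2, sub_zero] at hae
      have hu : IsUnitIn S i a' := by
        by_contra hn
        exact one_ne_zero (hae.trans (rho_zero_of_nonunit hS hi hac hn))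
      obtain ⟨w, -, hw1, hw2, -, hw3⟩ := hu
      refine ⟨redG G M w, ?_, ?_⟩
      · rw [hL, mem_cornerOf hidem, hib, ← map_mul, hw1, ← map_mul, hw2]
      · rw [← ha', ← map_mul, hw3]
  · have h1 := h (ib * single g 1 * ib) ⟨single g 1, rfl⟩
    rw [← h1]
    show (x * single g 1).coeff 1 = (x * (ib * single g 1 * ib)).coeff 1
    rw [show x * (ib * single g 1 * ib) = x * ib * single g 1 * ib by simp only [mul_assoc],
      hmul_i x hx, coeff_mul_one_comm (x * single g 1) ib, ← mul_assoc, hi_mul x hx]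

/-- An integral element of the corner killed by every character reduces to a commutator. -/
theorem exists_relation (hM : IsPModular p M) (hB : IsPBlock M B) (hk : Nat.card B ≤ 4)
    {i : RG M G} (hi : IsPrimIn Stop i) (hiB : i * eBlock hM hB = i) {S : Finset (RG M G)}
    {a b : RG M G → RG M G} (hfull : ∑ l ∈ S, a l * i * b l = eBlock hM hB)
    (f : Fin 5 → kG) (hf : ∀ m, f m ∈ cornerOf (k := ResField M) (redG G M i)) :
    ∃ c : Fin 5 → ResField M, c ≠ 0 ∧
      ∑ m, c m • f m ∈ commSpan (cornerOf (k := ResField M) (redG G M i)) := by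
  classical
  haveI : Fintype {χ // χ ∈ B} := Fintype.ofFinite _
  have hidem : redG G M i * redG G M i = redG G M i := by rw [← map_mul, hi.idem]
  have hex : ∀ m, ∃ F : RG M G, sand i F = F ∧ redG G M F = f m := fun m => by
    obtain ⟨a₀, ha₀⟩ := redG_surjective (M := M) (f m)
    refine ⟨sand i a₀, ?_, ?_⟩
    · rw [sand_apply, sand_apply, show i * (i * a₀ * i) * i = i * i * a₀ * (i * i) by
        simp only [mul_assoc], hi.idem]
    · rw [sand_apply, map_mul, map_mul, ha₀]
      exact (mem_cornerOf hidem).1 (hf m)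
  choose F hF1 hF2 using hex
  have hval : ∀ (χ : IrrCharacter G) (g : G), MemLocalRing M ((χ : G → ℂ) g) := fun χ g =>
    memLocalRing_of_isIntegral' (isIntegral_char χ g)
  let V : Fin 5 → {χ // χ ∈ B} → locSubring M := fun m χ =>
    ⟨ev ((χ.1 : IrrCharacter G) : G → ℂ) (F m), memLocalRing_ev (hval χ.1) (F m)⟩
  obtain ⟨g, hg, m₁, hm₁⟩ : ∃ g : Fin 5 → locSubring M, ∑ m, g m • V m = 0 ∧ ∃ m, g m ≠ 0 := by
    refine Fintype.not_linearIndependent_iff.1 fun hli => ?_
    have h := hli.fintype_card_le_finrank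
    rw [Module.finrank_pi, Fintype.card_fin, ← Nat.card_eq_fintype_card] at h
    have : Nat.card {χ // χ ∈ B} = Nat.card B := rfl
    omega
  obtain ⟨m₀, hm₀, hloc⟩ := exists_scaling hM (fun m => (g m : ℂ))
    (fun m => isAlgebraic_of_memLocalRing (g m).2)
    ⟨m₁, fun h => hm₁ (Subtype.ext h)⟩
  let c : Fin 5 → locSubring M := fun m => ⟨(g m₀ : ℂ)⁻¹ * (g m : ℂ), hloc m⟩
  set X := ∑ m, c m • F m with hX
  have hXi : i * X * i = X := by
    rw [hX, Finset.mul_sum, Finset.sum_mul]
    refine Finset.sum_congr rfl fun m _ => ?_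
    rw [mul_smul_comm, smul_mul_assoc, ← sand_apply, hF1]
  have hXev : ∀ χ : IrrCharacter G, ev (χ : G → ℂ) X = 0 := by
    intro χ
    rw [hX, ev_sum]
    simp only [ev_smul]
    by_cases hχ : χ ∈ B
    · have h := congrArg (Subtype.val : locSubring M → ℂ) (congrFun hg ⟨χ, hχ⟩)
      simp only [Finset.sum_apply, Pi.smul_apply, smul_eq_mul, Pi.zero_apply,
        ZeroMemClass.coe_zero, AddSubmonoidClass.coe_finsetSum, Subring.coe_mul] at h
      calc ∑ m, (c m : ℂ) * ev (χ : G → ℂ) (F m)
          = (g m₀ : ℂ)⁻¹ * ∑ m, (g m : ℂ) * (V m ⟨χ, hχ⟩ : ℂ) := by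
            rw [Finset.mul_sum]
            exact Finset.sum_congr rfl fun m _ => mul_assoc _ _ _
        _ = 0 := by rw [h, mul_zero]
    · refine Finset.sum_eq_zero fun m _ => ?_
      have e : F m * eBlock hM hB = F m := by
        rw [← hF1 m, sand_apply, mul_assoc, hiB]
      rw [ev_eq_zero_of_not_mem hM hB e hχ, mul_zero]
  refine ⟨fun m => red M (c m), fun h => ?_, ?_⟩
  · have h1 := congrFun h m₀
    have h2 : c m₀ = 1 := Subtype.ext (inv_mul_cancel₀ hm₀)
    simp only [h2, map_one, Pi.zero_apply] at h1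
    exact one_ne_zero h1
  · have h := redG_mem_commSpan hi.idem hiB (eBlock_mul_comm hM hB) hfull hXi hXev
    rw [hX, map_sum] at h
    simpa only [redG_smul, hF2] using h

/-- **The corner of a block of rank one with at most four characters is commutative.** -/
theorem exists_commutative_corner (hM : IsPModular p M) (hB : IsPBlock M B)
    (hD : IsDefectGroup p M B D) (hl : blockRank p B = 1) (hk : Nat.card B ≤ 4) :
    ∃ i : RG M G, IsPrimIn Stop i ∧ i * eBlock hM hB = i ∧
      ∀ x y, sand i x * sand i y = sand i y * sand i x := by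
  classical
  obtain ⟨i, hi, hiB, S, a, b, hfull⟩ := exists_full hM hB hD hl
  obtain ⟨J, t, hc⟩ := exists_localCorner hi
  have hcomm := hc.commute_of_four fun f hf => exists_relation hM hB hk hi hiB hfull f hf
  have hbot : commSpan (cornerOf (k := ResField M) (redG G M i)) = ⊥ := by
    rw [eq_bot_iff]
    refine Submodule.span_le.2 ?_
    rintro _ ⟨x, hx, y, hy, rfl⟩
    exact (Submodule.mem_bot _).2 (sub_eq_zero.2 (hcomm x hx y hy).eq)
  refine ⟨i, hi, hiB, fun x y => ?_⟩
  rw [← sub_eq_zero]
  set Z := sand i x * sand i y - sand i y * sand i x with hZ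
  have hfix : ∀ u v, i * (sand i u * sand i v) * i = sand i u * sand i v := fun u v => by
    rw [sand_apply, sand_apply, show i * (i * u * i * (i * v * i)) * i =
      i * i * u * i * (i * v * (i * i)) by simp only [mul_assoc], hi.idem]
  have hZi : i * Z * i = Z := by rw [hZ, mul_sub, sub_mul, hfix, hfix]
  have hZev : ∀ χ : IrrCharacter G, ev (χ : G → ℂ) Z = 0 := fun χ => by
    rw [hZ, ev_sub, ev_mul_comm (irr_isClassFunction χ), sub_self]
  by_contra hZ0
  obtain ⟨g₀, hg₀, hloc⟩ := exists_scaling hM (fun g => coef Z g)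
    (fun g => isAlgebraic_of_memLocalRing (memLocalRing_coef Z g))
    (by
      by_contra h
      simp only [not_exists, not_not] at h
      exact hZ0 (coef_injective (funext fun g => by rw [h g, coef_zero]; rfl)))
  set Z' : RG M G := ofFun (fun g => (coef Z g₀)⁻¹ * coef Z g) hloc with hZ'
  set r : locSubring M := ⟨coef Z g₀, memLocalRing_coef Z g₀⟩ with hr
  have hr0 : r ≠ 0 := fun h => hg₀ (congrArg Subtype.val h)
  have hrZ : r • Z' = Z := coef_injective (by
    rw [coef_smul, hZ', coef_ofFun]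
    funext g
    rw [Pi.smul_apply, smul_eq_mul, hr]
    exact mul_inv_cancel_left₀ hg₀ _)
  have hZ'i : i * Z' * i = Z' := by
    refine sub_eq_zero.1 ((smul_eq_zero' r _ ?_).resolve_left hr0)
    rw [smul_sub, ← smul_mul_assoc, ← mul_smul_comm, hrZ, hZi, sub_self]
  have hZ'ev : ∀ χ : IrrCharacter G, ev (χ : G → ℂ) Z' = 0 := fun χ => by
    have h := hZev χ
    rw [← hrZ, ev_smul] at h
    exact (mul_eq_zero.1 h).resolve_left hg₀
  have h := redG_mem_commSpan hi.idem hiB (eBlock_mul_comm hM hB) hfull hZ'i hZ'ev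
  rw [hbot, Submodule.mem_bot] at h
  have h1 := brZero_bot_iff.1 (redG_eq_zero_iff.1 h) g₀
  rw [hZ', coef_ofFun] at h1
  rw [inv_mul_cancel₀ hg₀] at h1
  exact not_memLocalIdeal_one h1

/-- **A block of rank one with a commutative corner has as many characters as the defect group
has elements.** -/
theorem card_eq_of_commutative_corner (hM : IsPModular p M) (hB : IsPBlock M B)
    (hPD : IsDefectGroup p M B D) (hl : blockRank p B = 1) {i : RG M G} (hi : IsPrimIn Stop i)
    (hiB : i * eBlock hM hB = i) (hcomm : ∀ x y, sand i x * sand i y = sand i y * sand i x) :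
    Nat.card B = Nat.card D := by
  classical
  haveI := Fintype.ofFinite (IrrCharacter G)
  obtain ⟨φ, d, ⟨n, hn⟩, hd, hsq⟩ := BlockHeights.rank_one_data hM hB hPD hl
  obtain ⟨c, ht⟩ := ev_idem_eq hM hd hi.idem
  have hcne : c ≠ 0 := by
    intro h0
    apply phiSum_one_ne_zero hi.idem hi.ne_zero
    have hcl : IsClassFunction G (fun g => phiSum i g⁻¹) := fun g y => by
      show phiSum i (y * g * y⁻¹)⁻¹ = phiSum i g⁻¹
      rw [← isClassFunction_phiSum i g⁻¹ y]
      congr 1
      group
    have h1 := congrFun (eq_sum_classInner hcl) 1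
    simp only [inv_one] at h1
    rw [h1, Finset.sum_apply]
    refine Finset.sum_eq_zero fun χ _ => ?_
    have h2 : classInner (fun g => phiSum i g⁻¹) (χ : G → ℂ) = ev (χ : G → ℂ) i := by
      rw [classInner_eq_sum_inv (irr_isCharacter χ)]
      rw [Fintype.sum_equiv (Equiv.inv G) (fun g => phiSum i g⁻¹ * (χ : G → ℂ) g⁻¹)
        (fun g => phiSum i g * (χ : G → ℂ) g) (fun g => rfl), sum_phiSum_mul i (irr_isClassFunction χ),
        ← mul_assoc, inv_mul_cancel₀ natCard_ne_zero_complex, one_mul]
    rw [Pi.smul_apply, h2]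
    by_cases hχ : χ ∈ B
    · rw [ht χ hχ, h0, mul_zero, zero_smul]
    · rw [ev_eq_zero_of_not_mem hM hB hiB hχ, zero_smul]
  have hd0 : ∀ χ ∈ B, d χ ≠ 0 := fun χ hχ h => by
    have := hd χ hχ 1 (BlockHeights.isPRegular_one hM.1)
    rw [h, Nat.cast_zero, zero_mul] at this
    exact IsIrrCharacter.apply_one_ne_zero χ.2 this
  -- the multipliers agree
  have hdc : ∀ χ ∈ B, ((d χ : ℂ) * c) ^ 2 = 1 := fun χ hχ => by
    have h := ev_cube χ hi.idem hcomm
    rw [ht χ hχ] at h
    refine mul_left_cancel₀ (mul_ne_zero (Nat.cast_ne_zero.2 (hd0 χ hχ)) hcne) ?_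
    rw [mul_one]
    linear_combination h
  obtain ⟨χ₀, hχ₀⟩ := IsPBlock.nonempty hB
  have hdd : ∀ χ ∈ B, d χ = d χ₀ := fun χ hχ => by
    have h : ((d χ : ℂ) * c) ^ 2 = ((d χ₀ : ℂ) * c) ^ 2 := (hdc χ hχ).trans (hdc χ₀ hχ₀).symm
    rw [mul_pow, mul_pow] at h
    have h2 : ((d χ ^ 2 : ℕ) : ℂ) = ((d χ₀ ^ 2 : ℕ) : ℂ) := by
      push_cast
      exact mul_right_cancel₀ (pow_ne_zero _ hcne) h
    exact Nat.pow_left_injective two_ne_zero (Nat.cast_injective h2)
  have hd1 : d χ₀ = 1 := by
    have h1 := hn 1 (BlockHeights.isPRegular_one hM.1)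
    rw [finsum_mem_eq_finite_toFinset_sum _ (Set.toFinite B)] at h1
    set s := (Set.toFinite B).toFinset
    have hφ0 : φ 1 ≠ 0 := fun h => by
      have := hd χ₀ hχ₀ 1 (BlockHeights.isPRegular_one hM.1)
      rw [h, mul_zero] at this
      exact IsIrrCharacter.apply_one_ne_zero χ₀.2 this
    rw [Finset.sum_congr rfl (g := fun ψ => (n ψ : ℂ) * ((d χ₀ : ℂ) * φ 1)) fun ψ hψ => by
      rw [hd ψ ((Set.Finite.mem_toFinset _).1 hψ) 1 (BlockHeights.isPRegular_one hM.1),
        hdd ψ ((Set.Finite.mem_toFinset _).1 hψ)], ← Finset.sum_mul, ← mul_assoc] at h1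
    have h2 : (∑ ψ ∈ s, (n ψ : ℂ)) * (d χ₀ : ℂ) = 1 :=
      mul_right_cancel₀ hφ0 (by rw [one_mul, ← h1])
    have h3 : (∑ ψ ∈ s, n ψ) * (d χ₀ : ℤ) = 1 := by
      have : (((∑ ψ ∈ s, n ψ) * (d χ₀ : ℤ) : ℤ) : ℂ) = ((1 : ℤ) : ℂ) := by
        push_cast; exact h2
      exact_mod_cast this
    exact_mod_cast Int.eq_one_of_mul_eq_one_left (Int.natCast_nonneg _) h3
  rw [← hsq, finsum_mem_eq_finite_toFinset_sum _ (Set.toFinite B),
    Finset.sum_congr rfl fun χ hχ => by
      rw [hdd χ ((Set.Finite.mem_toFinset _).1 hχ), hd1, one_pow],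
    Finset.sum_const, smul_eq_mul, mul_one, Nat.card_eq_card_finite_toFinset (Set.toFinite B)]

end Cfsg.Agent.Lib.SmallBlocks
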