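import Mathlib.Algebra.Algebra.Operations
import Mathlib.Algebra.Algebra.Subalgebra.Basic
import Mathlib.Algebra.Algebra.Subalgebra.Lattice
import Mathlib.RingTheory.Adjoin.Basic
import Mathlib.LinearAlgebra.Quotient.Basic
import Mathlib.LinearAlgebra.Span.Defs
import Mathlib.Tactic.Module
import Mathlib.Tactic.LinearCombination
import Mathlib.Data.Fin.VecNotation
import Mathlib.Algebra.BigOperators.Fin
import Mathlib.Data.Nat.Find

/-!
# A local symmetric algebra with at most four trace classes is commutative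

The algebra is a corner `L` of an ambient algebra `R` with identity `i` and radical `J`.
-/

set_option autoImplicit false

namespace Cfsg.Agent.Lib.SmallBlocks

variable {k R : Type*} [Field k] [Ring R] [Algebra k R]

/-- The span of the commutators of a subspace. -/
def commSpan (L : Submodule k R) : Submodule k R :=
  Submodule.span k {z | ∃ x ∈ L, ∃ y ∈ L, x * y - y * x = z}

theorem commutator_mem_commSpan {L : Submodule k R} {x y : R} (hx : x ∈ L) (hy : y ∈ L) :
    x * y - y * x ∈ commSpan L := Submodule.subset_span ⟨x, hx, y, hy, rfl⟩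

/-- The data of a local symmetric corner. -/
structure LocalCorner (L J : Submodule k R) (i : R) (t : R →ₗ[k] k) : Prop where
  i_mem : i ∈ L
  J_le : J ≤ L
  i_mul : ∀ x ∈ L, i * x = x
  mul_i : ∀ x ∈ L, x * i = x
  split : ∀ x ∈ L, ∃ c : k, x - c • i ∈ J
  i_not_mem : i ∉ J
  J_sq : J * J ≤ J
  nil : ∃ N : ℕ, J ^ N = ⊥
  symm : ∀ x y : R, t (x * y) = t (y * x)
  nondeg : ∀ x ∈ L, (∀ y ∈ L, t (x * y) = 0) → x = 0

variable {L J : Submodule k R} {i : R} {t : R →ₗ[k] k}

namespace LocalCorner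

theorem pow_succ_le (h : LocalCorner L J i t) (m : ℕ) : J ^ (m + 2) ≤ J ^ (m + 1) := by
  rw [pow_add, pow_two, pow_succ]
  exact mul_le_mul' le_rfl h.J_sq

theorem pow_le_pow (h : LocalCorner L J i t) {a : ℕ} (ha : 1 ≤ a) :
    ∀ b, a ≤ b → J ^ b ≤ J ^ a := by
  intro b hb
  induction b, hb using Nat.le_induction with
  | base => exact le_rfl
  | succ b hb ih =>
    obtain ⟨m, rfl⟩ := Nat.exists_eq_add_of_le (show 1 ≤ b by omega)
    rw [show 1 + m + 1 = m + 2 by omega]
    exact (h.pow_succ_le m).trans (by rwa [show m + 1 = 1 + m by omega])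

theorem pow_eq_bot_of_le_succ (h : LocalCorner L J i t) {a : ℕ}
    (ha : J ^ a ≤ J ^ (a + 1)) : J ^ a = ⊥ := by
  obtain ⟨N, hN⟩ := h.nil
  have : ∀ m, J ^ a ≤ J ^ (a + m) := by
    intro m
    induction m with
    | zero => exact le_rfl
    | succ m ih =>
      refine ih.trans ?_
      rw [pow_add J a m, show a + (m + 1) = a + 1 + m by omega, pow_add J (a + 1) m]
      exact mul_le_mul' ha le_rfl
  refine le_bot_iff.1 ((this N).trans ?_)
  rw [pow_add, hN, Submodule.mul_bot]

theorem commSpan_le (h : LocalCorner L J i t) : commSpan L ≤ J * J := by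
  refine Submodule.span_le.2 ?_
  rintro _ ⟨x, hx, y, hy, rfl⟩
  obtain ⟨c, hc⟩ := h.split x hx
  obtain ⟨d, hd⟩ := h.split y hy
  have e : x * y - y * x = (x - c • i) * (y - d • i) - (y - d • i) * (x - c • i) := by
    simp only [sub_mul, mul_sub, smul_mul_assoc, mul_smul_comm, h.i_mul _ hx, h.i_mul _ hy,
      h.mul_i _ hx, h.mul_i _ hy, h.i_mul _ h.i_mem]
    module
  rw [e]
  exact sub_mem (Submodule.mul_mem_mul hc hd) (Submodule.mul_mem_mul hd hc)

theorem t_commSpan (h : LocalCorner L J i t) {z : R} (hz : z ∈ commSpan L) : t z = 0 := by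
  have : commSpan L ≤ LinearMap.ker t := Submodule.span_le.2 fun _ ⟨x, _, y, _, e⟩ => by
    rw [SetLike.mem_coe, LinearMap.mem_ker, ← e, map_sub, h.symm x y, sub_self]
  exact this hz

/-- An element killed by the radical is determined by its trace. -/
theorem eq_zero_of_socle (h : LocalCorner L J i t) {x : R} (hx : x ∈ L)
    (hs : ∀ y ∈ J, y * x = 0) (h0 : t x = 0) : x = 0 := by
  refine h.nondeg x hx fun y hy => ?_
  obtain ⟨c, hc⟩ := h.split y hy
  have h1 : t (x * (y - c • i)) = 0 := by rw [h.symm, hs _ hc, map_zero]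
  rw [mul_sub, mul_smul_comm, h.mul_i x hx, map_sub, map_smul, h0, smul_zero, sub_zero] at h1
  exact h1

/-- A radical generated by one element modulo its square is commutative. -/
theorem commute_of_cyclic (h : LocalCorner L J i t) {c : R} (hcJ : c ∈ J)
    (hc : J ≤ k ∙ c ⊔ J * J) {x y : R} (hx : x ∈ J) (hy : y ∈ J) : Commute x y := by
  obtain ⟨N, hN⟩ := h.nil
  have step : ∀ m : ℕ, J ^ (m + 1) ≤ (k ∙ c ^ (m + 1)) ⊔ J ^ (m + 2) := by
    intro m
    induction m with
    | zero => rwa [pow_one, pow_one, show J ^ (0 + 2) = J * J from pow_two J]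
    | succ m ih =>
      have hcm : (k ∙ c ^ (m + 1)) ≤ J ^ (m + 1) := (Submodule.span_singleton_le_iff_mem _ _).2
        (Submodule.pow_mem_pow _ hcJ _)
      rw [pow_succ J (m + 1)]
      refine (mul_le_mul' ih le_rfl).trans ?_
      rw [Submodule.sup_mul, ← pow_succ J (m + 2)]
      refine sup_le ((mul_le_mul' le_rfl hc).trans ?_) le_sup_right
      rw [Submodule.mul_sup, Submodule.span_mul_span, Set.singleton_mul_singleton, ← pow_succ]
      refine sup_le le_sup_left (le_sup_of_le_right ((mul_le_mul' hcm le_rfl).trans ?_))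
      rw [← pow_two, ← pow_add]
  let P : Submodule k R := Subalgebra.toSubmodule (Algebra.adjoin k {c})
  have hP : ∀ m, J ≤ P ⊔ J ^ (m + 1) := by
    intro m
    induction m with
    | zero => rw [zero_add, pow_one]; exact le_sup_right
    | succ m ih =>
      refine ih.trans (sup_le le_sup_left ((step m).trans (sup_le_sup_right ?_ _)))
      exact (Submodule.span_singleton_le_iff_mem _ _).2
        (Subalgebra.pow_mem _ (Algebra.self_mem_adjoin_singleton k c) _)
  have hJP : J ≤ P := (hP N).trans (by rw [pow_succ, hN, Submodule.bot_mul, sup_bot_eq])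
  exact Algebra.commute_of_mem_adjoin_singleton_of_commute (hJP hy)
    (Algebra.commute_of_mem_adjoin_singleton_of_commute (hJP hx) (Commute.refl c)).symm

/-- With a vanishing cube of the radical the corner is commutative. -/
theorem commute_of_cube (h : LocalCorner L J i t) (h3 : J ^ 3 = ⊥) :
    ∀ x ∈ L, ∀ y ∈ L, Commute x y := by
  intro x hx y hy
  have hz := commutator_mem_commSpan hx hy
  have hzJ : x * y - y * x ∈ J * J := h.commSpan_le hz
  refine sub_eq_zero.1 (h.eq_zero_of_socle (h.J_le (h.J_sq hzJ)) (fun u hu => ?_)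
    (h.t_commSpan hz))
  have := Submodule.mul_mem_mul hu hzJ
  rwa [← pow_two, ← pow_succ', h3, Submodule.mem_bot] at this

/-- **A local symmetric corner with at most four trace classes is commutative.** -/
theorem commute_of_four (h : LocalCorner L J i t)
    (hdim : ∀ f : Fin 5 → R, (∀ m, f m ∈ L) →
      ∃ c : Fin 5 → k, c ≠ 0 ∧ ∑ m, c m • f m ∈ commSpan L) :
    ∀ x ∈ L, ∀ y ∈ L, Commute x y := by
  classical
  by_cases h3 : J ^ 3 = ⊥
  · exact h.commute_of_cube h3
  -- the last power is the socle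
  obtain ⟨N, hN⟩ := h.nil
  have hex : ∃ m, J ^ (m + 1) = ⊥ :=
    ⟨N, by rw [pow_succ, hN, Submodule.bot_mul]⟩
  set n := Nat.find hex with hn
  have hn1 : J ^ (n + 1) = ⊥ := Nat.find_spec hex
  have hn3 : 3 ≤ n := by
    by_contra hlt
    exact h3 (le_bot_iff.1 ((h.pow_le_pow (by omega) 3 (by omega)).trans hn1.le))
  obtain ⟨z, hz, hz0⟩ : ∃ z ∈ J ^ n, z ≠ 0 := by
    obtain ⟨m, hm⟩ : ∃ m, n = m + 1 := ⟨n - 1, by omega⟩
    refine (Submodule.ne_bot_iff _).1 ?_
    rw [hm]
    exact Nat.find_min hex (show m < Nat.find hex by omega)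
  have hz3 : z ∈ J ^ 3 := h.pow_le_pow (by omega) n hn3 hz
  have hz2 : z ∈ J * J := by rw [← pow_two]; exact h.pow_le_pow (by omega) n (by omega) hz
  have hzJ : z ∈ J := h.J_sq hz2
  have hzK : z ∉ commSpan L := fun hK => hz0 (h.eq_zero_of_socle (h.J_le hzJ) (fun u hu => by
    have := Submodule.mul_mem_mul hu hz
    rwa [← pow_succ', hn1, Submodule.mem_bot] at this) (h.t_commSpan hK))
  -- two generators
  intro u hu v hv
  by_cases hcyc : ∃ c ∈ J, J ≤ (k ∙ c) ⊔ J * J
  · obtain ⟨c, hcJ, hc⟩ := hcyc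
    obtain ⟨a, ha⟩ := h.split u hu
    obtain ⟨b, hb⟩ := h.split v hv
    have := (h.commute_of_cyclic hcJ hc ha hb).eq
    simp only [sub_mul, mul_sub, smul_mul_assoc, mul_smul_comm, h.i_mul _ hu, h.i_mul _ hv,
      h.mul_i _ hu, h.mul_i _ hv, h.i_mul _ h.i_mem] at this
    refine sub_eq_zero.1 ?_
    rw [← sub_eq_zero] at this
    rw [← this]
    module
  exfalso
  simp only [not_exists, not_and, SetLike.not_le_iff_exists] at hcyc
  obtain ⟨x, hx, hxn⟩ := hcyc 0 (zero_mem _)
  obtain ⟨y, hy, hyn⟩ := hcyc x hx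
  have hxy : ∀ r s : k, r • x + s • y ∈ J * J → r = 0 ∧ s = 0 := by
    intro r s hrs
    by_cases hs : s = 0
    · subst hs
      refine ⟨?_, rfl⟩
      by_contra hr
      rw [zero_smul, add_zero] at hrs
      exact hxn (Submodule.mem_sup_right (by
        simpa [inv_smul_smul₀ hr] using Submodule.smul_mem _ r⁻¹ hrs))
    · refine absurd (Submodule.mem_sup.2 ⟨(-(s⁻¹ * r)) • x, Submodule.smul_mem _ _
        (Submodule.mem_span_singleton_self x), s⁻¹ • (r • x + s • y),
        Submodule.smul_mem _ _ hrs, ?_⟩) hyn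
      rw [smul_add, inv_smul_smul₀ hs, smul_smul]
      module
  have hK2 := h.commSpan_le
  -- the dependence among five elements
  have key : ∀ q ∈ J, ∃ r s : k, ∃ e : k, q - r • x - s • y - e • z ∈ commSpan L := by
    intro q hq
    obtain ⟨c, hc0, hc⟩ := hdim ![i, z, x, y, q] (fun m => by
      fin_cases m
      exacts [h.i_mem, h.J_le hzJ, h.J_le hx, h.J_le hy, h.J_le hq])
    simp only [Fin.sum_univ_five, Matrix.cons_val_zero, Matrix.cons_val_one,
      Matrix.cons_val] at hc
    have e0 : c 0 = 0 := by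
      by_contra hne
      have hJ : c 0 • i ∈ J := by
        have h1 : c 1 • z + c 2 • x + c 3 • y + c 4 • q ∈ J :=
          add_mem (add_mem (add_mem (Submodule.smul_mem _ _ hzJ) (Submodule.smul_mem _ _ hx))
            (Submodule.smul_mem _ _ hy)) (Submodule.smul_mem _ _ hq)
        have h2 := sub_mem (h.J_sq (hK2 hc)) h1
        convert h2 using 1
        module
      exact h.i_not_mem (by simpa [inv_smul_smul₀ hne] using Submodule.smul_mem _ (c 0)⁻¹ hJ)
    rw [e0, zero_smul, zero_add] at hc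
    by_cases h4 : c 4 = 0
    · rw [h4, zero_smul, add_zero] at hc
      obtain ⟨h2, h3⟩ := hxy (c 2) (c 3) (by
        have := sub_mem (hK2 hc) (Submodule.smul_mem _ (c 1) hz2)
        convert this using 1
        module)
      rw [h2, h3, zero_smul, zero_smul, add_zero, add_zero] at hc
      have h1 : c 1 = 0 := by
        by_contra h1
        exact hzK (by simpa [inv_smul_smul₀ h1] using Submodule.smul_mem _ (c 1)⁻¹ hc)
      exact absurd (funext fun m => by fin_cases m <;> assumption) hc0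
    · refine ⟨-((c 4)⁻¹ * c 2), -((c 4)⁻¹ * c 3), -((c 4)⁻¹ * c 1), ?_⟩
      have := Submodule.smul_mem _ (c 4)⁻¹ hc
      simp only [smul_add, smul_smul, inv_mul_cancel₀ h4, one_smul] at this
      convert this using 1
      module
  -- the commutators and the square
  set w := x * y - y * x with hw
  have hsq2 : ∀ q ∈ J, ∃ r s : k, q - r • x - s • y ∈ J * J := fun q hq => by
    obtain ⟨r, s, e, he⟩ := key q hq
    refine ⟨r, s, ?_⟩
    convert add_mem (hK2 he) (Submodule.smul_mem _ e hz2) using 1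
    module
  have hL3 : ∀ a ∈ J, ∀ b ∈ J * J, a * b ∈ J ^ 3 ∧ b * a ∈ J ^ 3 := fun a ha b hb =>
    ⟨by rw [pow_succ', pow_two]; exact Submodule.mul_mem_mul ha hb,
      by rw [pow_succ, pow_two]; exact Submodule.mul_mem_mul hb ha⟩
  have hKw : commSpan L ≤ (k ∙ w) ⊔ J ^ 3 := by
    refine Submodule.span_le.2 ?_
    rintro _ ⟨u, hu, v, hv, rfl⟩
    obtain ⟨c, hc⟩ := h.split u hu
    obtain ⟨d, hd⟩ := h.split v hv
    have e : u * v - v * u = (u - c • i) * (v - d • i) - (v - d • i) * (u - c • i) := by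
      simp only [sub_mul, mul_sub, smul_mul_assoc, mul_smul_comm, h.i_mul _ hu, h.i_mul _ hv,
        h.mul_i _ hu, h.mul_i _ hv, h.i_mul _ h.i_mem]
      module
    rw [SetLike.mem_coe, e]
    generalize u - c • i = a at hc
    generalize v - d • i = b at hd
    obtain ⟨r, s, ha⟩ := hsq2 a hc
    obtain ⟨r', s', hb⟩ := hsq2 b hd
    refine Submodule.mem_sup.2 ⟨(r * s' - s * r') • w, Submodule.smul_mem _ _
      (Submodule.mem_span_singleton_self w), a * b - b * a - (r * s' - s * r') • w, ?_, by abel⟩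
    have hlin : ∀ r s : k, r • x + s • y ∈ J := fun r s =>
      add_mem (Submodule.smul_mem _ _ hx) (Submodule.smul_mem _ _ hy)
    have h1 := hL3 a hc _ hb
    have h2 := hL3 _ (hlin r' s') _ ha
    convert sub_mem (add_mem (sub_mem h1.1 h1.2) h2.2) h2.1 using 1
    simp only [hw, mul_sub, sub_mul, mul_add, add_mul, smul_mul_assoc, mul_smul_comm]
    module
  have hJ2 : ∀ q ∈ J * J, ∃ e : k, q - e • w ∈ J ^ 3 := by
    intro q hq
    obtain ⟨r, s, e, he⟩ := key q (h.J_sq hq)
    obtain ⟨hr, hs⟩ := hxy r s (by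
      convert sub_mem (sub_mem hq (Submodule.smul_mem _ e hz2)) (hK2 he) using 1
      module)
    rw [hr, hs, zero_smul, zero_smul, sub_zero, sub_zero] at he
    obtain ⟨_, h1, q3, hq3, e3⟩ := Submodule.mem_sup.1 (hKw he)
    obtain ⟨e', rfl⟩ := Submodule.mem_span_singleton.1 h1
    refine ⟨e', ?_⟩
    convert add_mem hq3 (Submodule.smul_mem _ e hz3) using 1
    rw [eq_sub_iff_add_eq] at e3
    rw [← e3]
    abel
  obtain ⟨α, hα⟩ := hJ2 _ (Submodule.mul_mem_mul hx hx)
  obtain ⟨β, hβ⟩ := hJ2 _ (Submodule.mul_mem_mul hx hy)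
  obtain ⟨γ, hγ⟩ := hJ2 _ (Submodule.mul_mem_mul hy hy)
  have hβ' : y * x - (β - 1) • w ∈ J ^ 3 := by
    convert hβ using 1
    rw [hw]
    module
  set Q := Submodule.mkQ (J ^ 4) with hQ
  have hQl : ∀ a ∈ J, ∀ b ∈ J ^ 3, Q (a * b) = 0 ∧ Q (b * a) = 0 := fun a ha b hb =>
    ⟨(Submodule.Quotient.mk_eq_zero _).2 (by
        rw [pow_succ']; exact Submodule.mul_mem_mul ha hb),
      (Submodule.Quotient.mk_eq_zero _).2 (by
        rw [pow_succ]; exact Submodule.mul_mem_mul hb ha)⟩
  have hl : ∀ a ∈ J, ∀ (e : k) (b : R), b - e • w ∈ J ^ 3 →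
      Q (a * b) = e • Q (a * w) ∧ Q (b * a) = e • Q (w * a) := fun a ha e b hb => by
    obtain ⟨h1, h2⟩ := hQl a ha _ hb
    rw [mul_sub, mul_smul_comm, map_sub, map_smul, sub_eq_zero] at h1
    rw [sub_mul, smul_mul_assoc, map_sub, map_smul, sub_eq_zero] at h2
    exact ⟨h1, h2⟩
  set U := Q (x * w) with hU
  set V := Q (y * w) with hV
  have hwx : Q (w * x) = (β - 1) • U - α • V := by
    rw [hw, sub_mul, mul_assoc, mul_assoc, map_sub, (hl x hx _ _ hβ').1, (hl y hy _ _ hα).1]
  have hwy : Q (w * y) = γ • U - β • V := by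
    rw [hw, sub_mul, mul_assoc, mul_assoc, map_sub, (hl x hx _ _ hγ).1, (hl y hy _ _ hβ).1]
  have xxy : α • (γ • U - β • V) = β • U := by
    rw [← hwy, ← (hl y hy _ _ hα).2, mul_assoc, (hl x hx _ _ hβ).1]
  have xxx : α • ((β - 1) • U - α • V) = α • U := by
    rw [← hwx, ← (hl x hx _ _ hα).2, mul_assoc, (hl x hx _ _ hα).1]
  have xyx : β • ((β - 1) • U - α • V) = (β - 1) • U := by
    rw [← hwx, ← (hl x hx _ _ hβ).2, mul_assoc, (hl x hx _ _ hβ').1]
  have xyy : β • (γ • U - β • V) = γ • U := by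
    rw [← hwy, ← (hl y hy _ _ hβ).2, mul_assoc, (hl x hx _ _ hγ).1]
  have yyx : γ • ((β - 1) • U - α • V) = (β - 1) • V := by
    rw [← hwx, ← (hl x hx _ _ hγ).2, mul_assoc, (hl y hy _ _ hβ').1]
  have hUV : U = 0 ∧ V = 0 := by
    by_cases hα0 : α = 0
    · subst hα0
      have h1 : β • U = 0 := by rw [← xxy, zero_smul]
      have hU0 : U = 0 := by
        linear_combination (norm := module) xyx - (β - 2) • h1
      refine ⟨hU0, ?_⟩
      rw [hU0] at xyy yyx
      linear_combination (norm := module) (β + 1) • yyx - xyy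
    · have hVU : α • V = (β - 2) • U := by
        have := congrArg (α⁻¹ • ·) xxx
        simp only [inv_smul_smul₀ hα0] at this
        linear_combination (norm := module) -this
      have hU0 : U = 0 := by
        linear_combination (norm := module) xyx + β • hVU
      refine ⟨hU0, ?_⟩
      rw [hU0, smul_zero] at hVU
      exact (smul_eq_zero.1 hVU).resolve_left hα0
  refine h3 (h.pow_eq_bot_of_le_succ ?_)
  rw [pow_succ', pow_two, Submodule.mul_le]
  intro a ha b hb
  obtain ⟨e, he⟩ := hJ2 b hb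
  obtain ⟨r, s, hrs⟩ := hsq2 a ha
  have h4 : Q (a * b) = 0 := by
    rw [(hl a ha e b he).1]
    have h5 : Q ((a - r • x - s • y) * w) = 0 :=
      (Submodule.Quotient.mk_eq_zero _).2 (by
        rw [show (4 : ℕ) = 2 + 2 from rfl, pow_add, pow_two]
        exact Submodule.mul_mem_mul hrs (sub_mem (Submodule.mul_mem_mul hx hy)
          (Submodule.mul_mem_mul hy hx)))
    rw [sub_mul, sub_mul, smul_mul_assoc, smul_mul_assoc, map_sub, map_sub, map_smul, map_smul,
      ← hU, ← hV, hUV.1, hUV.2, smul_zero, smul_zero, sub_zero, sub_zero] at h5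
    rw [h5, smul_zero]
  exact (Submodule.Quotient.mk_eq_zero _).1 h4

end LocalCorner

end Cfsg.Agent.Lib.SmallBlocks
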