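import Cfsg.Agent.Lib.SmallBlocks.LocalSymmetric
import Cfsg.Agent.Lib.CyclicCorner.Degrees
import Cfsg.Agent.Lib.Blocks.Valuation
import Cfsg.Agent.Lib.Blocks.LocalModel
import Mathlib.LinearAlgebra.Dimension.StrongRankCondition

/-!
# A block of rank one with at most four characters has a commutative corner
-/

set_option autoImplicit false
set_option linter.unusedSectionVars false
set_option linter.style.haveILetI false

namespace Cfsg.Agent.Lib.SmallBlocks

open Cfsg Cfsg.Agent.Lib.Blocks Cfsg.Agent.Lib.BrauerStar Cfsg.Agent.Lib.Characters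
  Cfsg.Agent.Lib.CyclicCorner MonoidAlgebra

universe u

variable {G : Type u} [Group G] [Fintype G] {M : Ideal AlgInt} [hMp : M.IsPrime] {p : ℕ}

local notation "Stop" => (⊤ : Subalgebra (locSubring M) (RG M G))

/-! ### The trace of a class as a class function -/

theorem isPrimIn_cj {l : RG M G} (hl : IsPrimIn Stop l) (h : G) : IsPrimIn Stop (cj h l) where
  mem := Algebra.mem_top
  idem := by rw [← map_mul, hl.idem]
  ne_zero := fun e => hl.ne_zero ((cj h).injective (e.trans (map_zero _).symm))
  eq_or := fun f _ hf h1 h2 => by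
    have h3 := hl.eq_or ((cj h).symm f) Algebra.mem_top (by rw [← map_mul, hf])
      (by rw [← (cj h).symm_apply_apply l, ← map_mul, h1])
      (by rw [← (cj h).symm_apply_apply l, ← map_mul, h2])
    rcases h3 with h3 | h3
    · exact Or.inl ((cj h).symm.injective (h3.trans (map_zero _).symm))
    · exact Or.inr (by rw [← h3, AlgEquiv.apply_symm_apply])

theorem inCorner_conj {l l₀ x y : RG M G} (hx : InCorner Stop l l₀ x) (hy : InCorner Stop l₀ l y)
    (h1 : x * y = l) (h2 : y * x = l₀) (h : G) :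
    InCorner Stop (cj h l) l₀ (el h * x) ∧ InCorner Stop l₀ (cj h l) (y * el h⁻¹) ∧
      el h * x * (y * el h⁻¹) = cj h l ∧ y * el h⁻¹ * (el h * x) = l₀ := by
  have he : (el h⁻¹ : RG M G) * el h = 1 := by rw [← el_mul, inv_mul_cancel, el_one]
  refine ⟨⟨Algebra.mem_top, ?_, ?_⟩, ⟨Algebra.mem_top, ?_, ?_⟩, ?_, ?_⟩
  · rw [cj_apply, show el h * l * el h⁻¹ * (el h * x) = el h * (l * (el h⁻¹ * el h * x)) by
      simp only [mul_assoc], he, one_mul, hx.2.1]
  · rw [mul_assoc, hx.2.2]
  · rw [← mul_assoc, hy.2.1]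
  · rw [cj_apply, show y * el h⁻¹ * (el h * l * el h⁻¹) = y * (el h⁻¹ * el h) * l * el h⁻¹ by
      simp only [mul_assoc], he, mul_one, hy.2.2]
  · rw [cj_apply, ← h1]
    simp only [mul_assoc]
  · rw [show y * el h⁻¹ * (el h * x) = y * (el h⁻¹ * el h) * x by simp only [mul_assoc], he,
      mul_one, h2]

theorem isEquivIn_cj {l l₀ : RG M G} (he : IsEquivIn Stop l l₀) (h : G) :
    IsEquivIn Stop (cj h l) l₀ := by
  obtain ⟨x, y, hx, hy, h1, h2⟩ := he
  obtain ⟨c1, c2, c3, c4⟩ := inCorner_conj hx hy h1 h2 h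
  exact ⟨_, _, c1, c2, c3, c4⟩

theorem tauTerm_cj {l l₀ : RG M G} (hl : IsPrimIn Stop l) (h₀ : IsPrimIn Stop l₀) (h : G)
    (a : RG M G) : tauTerm Stop l₀ (cj h l) (cj h a) = tauTerm Stop l₀ l a := by
  classical
  by_cases he : IsEquivIn Stop l l₀
  · obtain ⟨x, y, hx, hy, h1, h2⟩ := he
    obtain ⟨c1, c2, c3, c4⟩ := inCorner_conj hx hy h1 h2 h
    refine (tauTerm_eq (a := cj h a) monicSplits_locSubring h₀ Algebra.mem_top (isPrimIn_cj hl h)
      c1 c2 c3 c4).trans (Eq.trans ?_
        (tauTerm_eq (a := a) monicSplits_locSubring h₀ Algebra.mem_top hl hx hy h1 h2).symm)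
    refine congrArg (rho Stop l₀) ?_
    rw [cj_apply]
    have he' : (el h⁻¹ : RG M G) * el h = 1 := by rw [← el_mul, inv_mul_cancel, el_one]
    rw [show y * el h⁻¹ * (el h * a * el h⁻¹) * (el h * x) =
      y * (el h⁻¹ * el h) * a * (el h⁻¹ * el h) * x by simp only [mul_assoc], he', mul_one, mul_one]
  · have hne : ¬ IsEquivIn Stop (cj h l) l₀ := fun h' => he (by
      have := isEquivIn_cj h' h⁻¹
      rwa [← cj_mul, inv_mul_cancel, cj_one] at this)
    rw [tauTerm, tauTerm, dif_neg he, dif_neg hne]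

theorem tau_cj {T : Finset (RG M G)} (hT : IsDecomp Stop 1 T) {l₀ : RG M G}
    (h₀ : IsPrimIn Stop l₀) (h : G) (a : RG M G) :
    tau Stop l₀ T (cj h a) = tau Stop l₀ T a := by
  classical
  have hT' : IsDecomp Stop 1 (T.image (cj h)) := by
    refine ⟨fun l hl => ?_, fun l hl m hm hne => ?_, ?_⟩
    · obtain ⟨l', hl', rfl⟩ := Finset.mem_image.1 hl
      exact isPrimIn_cj (hT.prim l' hl') h
    · obtain ⟨l', hl', rfl⟩ := Finset.mem_image.1 hl
      obtain ⟨m', hm', rfl⟩ := Finset.mem_image.1 hm
      rw [← map_mul, hT.orth l' hl' m' hm' (fun e => hne (by rw [e])), map_zero]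
    · rw [Finset.sum_image (fun _ _ _ _ e => (cj h).injective e), ← map_sum, hT.sum, map_one]
  rw [tau_congr monicSplits_locSubring h₀ hT hT' Algebra.mem_top, tau, tau,
    Finset.sum_image (fun _ _ _ _ e => (cj h).injective e)]
  exact Finset.sum_congr rfl fun l hl => tauTerm_cj (hT.prim l hl) h₀ h a

theorem tau_smul {T : Finset (RG M G)} {l₀ : RG M G} (h₀ : IsPrimIn Stop l₀) (r : locSubring M)
    (a : RG M G) : tau Stop l₀ T (r • a) = red M r * tau Stop l₀ T a := by
  classical
  rw [tau, tau, Finset.mul_sum]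
  refine Finset.sum_congr rfl fun l _ => ?_
  by_cases he : IsEquivIn Stop l l₀
  · obtain ⟨hx, hy, -, -⟩ := he.choose_spec.choose_spec
    rw [tauTerm, tauTerm, dif_pos he, dif_pos he]
    set x := he.choose
    set y := he.choose_spec.choose
    have hc : InCorner Stop l₀ l₀ (y * a * x) :=
      ⟨Algebra.mem_top, by rw [← mul_assoc, ← mul_assoc, hy.2.1], by rw [mul_assoc, hx.2.2]⟩
    have hr : rho Stop l₀ (r • l₀) = red M r := rho_eq monicSplits_locSubring h₀
      (inCorner_smul h₀ r) (by rw [sub_self]; exact h₀.not_isUnitIn_zero)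
    rw [← hr, ← rho_mul monicSplits_locSubring h₀ (inCorner_smul h₀ r) hc, smul_mul_assoc,
      hc.2.1, mul_smul_comm, smul_mul_assoc]
  · rw [tauTerm, tauTerm, dif_neg he, dif_neg he, mul_zero]

theorem sum_coeff_smul_el (a : RG M G) : ∑ g : G, a.coeff g • (el g : RG M G) = a := by
  refine coef_injective (funext fun h => ?_)
  rw [coef_sum, Finset.sum_apply, Finset.sum_eq_single h]
  · rw [coef_smul, Pi.smul_apply, el, MonoidAlgebra.of_apply, coef_single, if_pos rfl,
      OneMemClass.coe_one, smul_eq_mul, mul_one]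
    rfl
  · intro g _ hne
    rw [coef_smul, Pi.smul_apply, el, MonoidAlgebra.of_apply, coef_single, if_neg hne, smul_zero]
  · simp

/-- A class function reducing to the trace of a class. -/
theorem exists_class_lift {T : Finset (RG M G)} (hT : IsDecomp Stop 1 T) {l₀ : RG M G}
    (h₀ : IsPrimIn Stop l₀) :
    ∃ θ : G → ℂ, IsClassFunction G θ ∧ ∀ a : RG M G, ∃ s : locSubring M,
      (s : ℂ) = ev θ a ∧ red M s = tau Stop l₀ T a := by
  classical
  let f : G → locSubring M := fun g =>
    Function.surjInv (red_surjective (M := M)) (tau Stop l₀ T (el g))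
  refine ⟨fun g => (f g : ℂ), fun g h => ?_, fun a => ⟨∑ g : G, a.coeff g * f g, ?_, ?_⟩⟩
  · show ((f (h * g * h⁻¹) : locSubring M) : ℂ) = f g
    simp only [f]
    rw [el_mul, el_mul, ← cj_apply, tau_cj hT h₀]
  · rw [AddSubmonoidClass.coe_finsetSum]
    rfl
  · conv_rhs => rw [← sum_coeff_smul_el a]
    rw [map_sum]
    have hsum : ∀ s : Finset G, tau Stop l₀ T (∑ g ∈ s, a.coeff g • el g) =
        ∑ g ∈ s, red M (a.coeff g) * tau Stop l₀ T (el g) := by
      intro s
      induction s using Finset.induction_on with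
      | empty =>
        rw [Finset.sum_empty, Finset.sum_empty]
        have h := tau_smul (T := T) h₀ (0 : locSubring M) (0 : RG M G)
        rwa [zero_smul, map_zero, zero_mul] at h
      | insert g s hg ih =>
        rw [Finset.sum_insert hg, Finset.sum_insert hg,
          tau_add monicSplits_locSubring h₀ Algebra.mem_top Algebra.mem_top, ih, tau_smul h₀]
    rw [hsum]
    refine Finset.sum_congr rfl fun g _ => ?_
    rw [map_mul]
    congr 1
    exact Function.surjInv_eq (red_surjective (M := M)) _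

variable {B : Set (IrrCharacter G)} {D : Subgroup G}

/-! ### One class of primitive idempotents -/

/-- The traces of an idempotent of the block are proportional to the multipliers. -/
theorem ev_idem_eq (hM : IsPModular p M) {φ : G → ℂ} {d : IrrCharacter G → ℕ}
    (hd : ∀ χ ∈ B, ∀ x : G, IsPRegular p x → (χ : G → ℂ) x = (d χ : ℂ) * φ x)
    {i : RG M G} (hii : i * i = i) : ∃ c : ℂ, ∀ χ ∈ B, ev (χ : G → ℂ) i = (d χ : ℂ) * c := by
  refine ⟨(Nat.card G : ℂ)⁻¹ * ∑ g, phiSum i g * φ g, fun χ hχ => ?_⟩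
  rw [mul_left_comm, eq_inv_mul_iff_mul_eq₀ natCard_ne_zero_complex,
    ← sum_phiSum_mul i (irr_isClassFunction χ), Finset.mul_sum]
  refine Finset.sum_congr rfl fun g _ => ?_
  by_cases hg : IsPRegular p g
  · rw [hd χ hχ g hg]; ring
  · rw [phiSum_eq_zero hM hii hg]; ring

theorem ev_expand [Fintype (IrrCharacter G)] {θ : G → ℂ} (hθ : IsClassFunction G θ)
    (a : RG M G) :
    ev θ a = ∑ χ : IrrCharacter G, classInner θ (χ : G → ℂ) * ev (χ : G → ℂ) a := by
  conv_lhs => rw [eq_sum_classInner hθ]
  simp only [ev, Finset.sum_apply, Pi.smul_apply, smul_eq_mul, Finset.mul_sum]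
  rw [Finset.sum_comm]
  exact Finset.sum_congr rfl fun χ _ => Finset.sum_congr rfl fun g _ => by ring

theorem isEquivIn_of_rank_one (hM : IsPModular p M) (hB : IsPBlock M B)
    (hD : IsDefectGroup p M B D) (hl : blockRank p B = 1) {T : Finset (RG M G)}
    (hT : IsDecomp Stop 1 T) {i j : RG M G} (hi : i ∈ T) (hj : j ∈ T)
    (hiB : i * eBlock hM hB = i) (hjB : j * eBlock hM hB = j) : IsEquivIn Stop i j := by
  classical
  haveI := Fintype.ofFinite (IrrCharacter G)
  by_contra hne
  obtain ⟨φ, d, -, hd, -⟩ := BlockHeights.rank_one_data hM hB hD hl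
  obtain ⟨ci, hci⟩ := ev_idem_eq hM hd (hT.prim i hi).idem
  obtain ⟨cj', hcj⟩ := ev_idem_eq hM hd (hT.prim j hj).idem
  have hK : ∀ θ : G → ℂ, IsClassFunction G θ →
      ∃ K : ℂ, ev θ i = K * ci ∧ ev θ j = K * cj' := fun θ hθ => by
    refine ⟨∑ χ : IrrCharacter G,
      if χ ∈ B then classInner θ (χ : G → ℂ) * (d χ : ℂ) else 0, ?_, ?_⟩
    · rw [ev_expand hθ, Finset.sum_mul]
      refine Finset.sum_congr rfl fun χ _ => ?_
      split_ifs with hχ
      · rw [hci χ hχ, mul_assoc]
      · rw [ev_eq_zero_of_not_mem hM hB hiB hχ, mul_zero, zero_mul]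
    · rw [ev_expand hθ, Finset.sum_mul]
      refine Finset.sum_congr rfl fun χ _ => ?_
      split_ifs with hχ
      · rw [hcj χ hχ, mul_assoc]
      · rw [ev_eq_zero_of_not_mem hM hB hjB hχ, mul_zero, zero_mul]
  have htau : ∀ l₀ ∈ T, ∀ l ∈ T,
      tau Stop l₀ T l = if IsEquivIn Stop l l₀ then 1 else 0 := fun l₀ h₀ l hl => by
    have h := tau_subsum monicSplits_locSubring (hT.prim l₀ h₀) hT
      (Finset.singleton_subset_iff.2 hl)
    rw [Finset.sum_singleton] at h
    rw [h, Finset.filter_singleton]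
    split_ifs <;> simp
  obtain ⟨θi, hθi, hi'⟩ := exists_class_lift hT (hT.prim i hi)
  obtain ⟨θj, hθj, hj'⟩ := exists_class_lift hT (hT.prim j hj)
  obtain ⟨Ki, hKi1, hKi2⟩ := hK θi hθi
  obtain ⟨Kj, hKj1, hKj2⟩ := hK θj hθj
  obtain ⟨a, ha, ha'⟩ := hi' i
  obtain ⟨b, hb, hb'⟩ := hi' j
  obtain ⟨c, hc, hc'⟩ := hj' i
  obtain ⟨e, he, he'⟩ := hj' j
  have h : a * e = b * c := Subtype.ext (by
    push_cast
    rw [ha, hb, hc, he, hKi1, hKi2, hKj1, hKj2]
    ring)
  have h2 := congrArg (red M) h
  rw [map_mul, map_mul, ha', hb', hc', he', htau i hi i hi, htau i hi j hj, htau j hj i hi,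
    htau j hj j hj, if_pos (IsEquivIn.refl (hT.prim i hi)), if_pos (IsEquivIn.refl (hT.prim j hj)),
    if_neg hne, mul_zero, mul_one] at h2
  exact one_ne_zero h2

/-- **In rank one one primitive idempotent generates the block.** -/
theorem exists_full (hM : IsPModular p M) (hB : IsPBlock M B)
    (hD : IsDefectGroup p M B D) (hl : blockRank p B = 1) :
    ∃ i : RG M G, IsPrimIn Stop i ∧ i * eBlock hM hB = i ∧
      ∃ (S : Finset (RG M G)) (a b : RG M G → RG M G),
        ∑ l ∈ S, a l * i * b l = eBlock hM hB := by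
  classical
  set e := eBlock hM hB with he
  obtain ⟨T, hT⟩ := exists_isDecomp (S := Stop) smul_eq_zero' (Algebra.mem_top (x := e))
    (eBlock_idem hM hB)
  obtain ⟨U, hU⟩ := exists_isDecomp (S := Stop) smul_eq_zero' (Algebra.mem_top (x := 1 - e))
    (by rw [mul_sub, mul_one, sub_mul, one_mul, eBlock_idem hM hB, sub_self, sub_zero])
  have hTU : ∀ l ∈ T, ∀ m ∈ U, l * m = 0 ∧ m * l = 0 := fun l hl m hm => by
    constructor
    · rw [← hT.mul_right hl, ← hU.mul_left hm, mul_assoc, ← mul_assoc e, mul_sub, mul_one,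
        eBlock_idem hM hB, sub_self, zero_mul, mul_zero]
    · rw [← hU.mul_right hm, ← hT.mul_left hl, mul_assoc, ← mul_assoc (1 - e), sub_mul, one_mul,
        eBlock_idem hM hB, sub_self, zero_mul, mul_zero]
  have hdis : Disjoint T U := Finset.disjoint_left.2 fun l hl hl' =>
    (hT.prim l hl).ne_zero (by rw [← (hT.prim l hl).idem]; exact (hTU l hl l hl').1)
  have hTU1 : IsDecomp Stop 1 (T ∪ U) := by
    refine ⟨fun l hl => ?_, fun l hl m hm hne => ?_, ?_⟩
    · exact (Finset.mem_union.1 hl).elim (hT.prim l) (hU.prim l)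
    · rcases Finset.mem_union.1 hl with hl | hl <;> rcases Finset.mem_union.1 hm with hm | hm
      exacts [hT.orth l hl m hm hne, (hTU l hl m hm).1, (hTU m hm l hl).2, hU.orth l hl m hm hne]
    · rw [Finset.sum_union hdis, hT.sum, hU.sum, add_sub_cancel]
  have hne : e ≠ 0 := fun h => by
    obtain ⟨χ, hχ⟩ := IsPBlock.nonempty hB
    have h1 := ev_mul_eBlock hM hB hχ (1 : RG M G)
    rw [← he, h, mul_zero, ev_zero, ← el_one, ev_el] at h1
    exact IsIrrCharacter.apply_one_ne_zero χ.2 h1.symm
  obtain ⟨i, hi⟩ : T.Nonempty := Finset.nonempty_of_ne_empty fun h => hne (by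
    rw [← hT.sum, h, Finset.sum_empty])
  have hex : ∀ l : RG M G, ∃ a b : RG M G, l ∈ T → a * i * b = l := fun l => by
    by_cases hl' : l ∈ T
    · obtain ⟨x, y, hx, -, h1, -⟩ := isEquivIn_of_rank_one hM hB hD hl hTU1
        (Finset.mem_union_left _ hl') (Finset.mem_union_left _ hi) (hT.mul_right hl')
        (hT.mul_right hi)
      exact ⟨x, y, fun _ => by rw [hx.2.2, h1]⟩
    · exact ⟨0, 0, fun h => absurd h hl'⟩
  choose a b hab using hex
  exact ⟨i, hT.prim i hi, hT.mul_right hi, T, a, b,
    by rw [Finset.sum_congr rfl fun l hl => hab l hl, hT.sum]⟩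

/-! ### The corner modulo the ideal -/

/-- The corner of an idempotent of an algebra. -/
def cornerOf {k R : Type*} [Field k] [Ring R] [Algebra k R] (i : R) : Submodule k R :=
  LinearMap.range ((LinearMap.mulRight k i).comp (LinearMap.mulLeft k i))

theorem mem_cornerOf {k R : Type*} [Field k] [Ring R] [Algebra k R] {i : R} (hi : i * i = i)
    {x : R} : x ∈ cornerOf (k := k) i ↔ i * x * i = x := by
  constructor
  · rintro ⟨y, rfl⟩
    show i * (i * y * i) * i = i * y * i
    rw [← mul_assoc i (i * y) i, ← mul_assoc i i y, hi, mul_assoc _ i i, hi]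
  · exact fun h => ⟨x, h⟩

/-- Nakayama for a corner: a stable subspace of the radical is zero. -/
theorem eq_bot_of_le_rad_mul {k R : Type*} [Field k] [Ring R] [Algebra k R]
    {L J W : Submodule k R} {i : R} (hJL : J ≤ L) (hLL : L * L ≤ L)
    (hJLJ : J * L ≤ J) (hiL : i ∈ L) (him : ∀ x ∈ W, i * x = x)
    (hunit : ∀ j ∈ J, ∃ w ∈ L, w * (i - j) = i) (hW : W.FG) (hWJ : W ≤ J * W) : W = ⊥ := by
  classical
  obtain ⟨T, hT⟩ := hW
  suffices key : ∀ S : Finset R, (∀ y ∈ S, y ∈ W) → W ≤ L * Submodule.span k (S : Set R) →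
      W = ⊥ by
    refine key T (fun y hy => hT ▸ Submodule.subset_span hy) (fun x hx => ?_)
    rw [← him x hx]
    exact Submodule.mul_mem_mul hiL (hT.symm ▸ hx)
  intro S
  induction S using Finset.induction_on with
  | empty =>
    intro _ h
    rwa [Finset.coe_empty, Submodule.span_empty, Submodule.mul_bot, le_bot_iff] at h
  | insert y S hy ih =>
    intro hS h
    refine ih (fun z hz => hS z (Finset.mem_insert_of_mem hz)) (le_trans h ?_)
    have hyW := hS y (Finset.mem_insert_self y S)
    have h1 : y ∈ J * Submodule.span k ((insert y S : Finset R) : Set R) := by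
      have h3 : J * W ≤ J * Submodule.span k ((insert y S : Finset R) : Set R) :=
        calc J * W ≤ J * (L * Submodule.span k ((insert y S : Finset R) : Set R)) :=
              mul_le_mul' le_rfl h
          _ = J * L * Submodule.span k ((insert y S : Finset R) : Set R) := (mul_assoc J L _).symm
          _ ≤ _ := mul_le_mul' hJLJ le_rfl
      exact h3 (hWJ hyW)
    rw [Finset.coe_insert, Submodule.span_insert, Submodule.mul_sup] at h1
    obtain ⟨u, hu, r, hr, hur⟩ := Submodule.mem_sup.1 h1
    have hmap : J * (k ∙ y) ≤ J.map (LinearMap.mulRight k y) :=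
      Submodule.mul_le.2 fun m hm z hz => by
        obtain ⟨c, rfl⟩ := Submodule.mem_span_singleton.1 hz
        exact ⟨c • m, Submodule.smul_mem _ c hm, by simp [mul_smul_comm]⟩
    obtain ⟨j, hj, rfl⟩ := hmap hu
    rw [LinearMap.mulRight_apply] at hur
    obtain ⟨w, hw, hwi⟩ := hunit j hj
    have hy' : y = w * r := by
      have e : (i - j) * y = r := by
        rw [sub_mul, him y hyW]
        exact sub_eq_of_eq_add' hur.symm
      rw [← e, ← mul_assoc, hwi, him y hyW]
    rw [Finset.coe_insert, Submodule.span_insert, Submodule.mul_sup]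
    refine sup_le (Submodule.mul_le.2 fun l hl z hz => ?_) le_rfl
    obtain ⟨c, rfl⟩ := Submodule.mem_span_singleton.1 hz
    rw [mul_smul_comm]
    refine Submodule.smul_mem _ c ?_
    rw [hy', ← mul_assoc]
    have hwr : r ∈ L * Submodule.span k (S : Set R) :=
      (mul_le_mul' hJL le_rfl : J * Submodule.span k (S : Set R) ≤ L * Submodule.span k (S : Set R)) hr
    have h4 := Submodule.mul_mem_mul (hLL (Submodule.mul_mem_mul hl hw)) hwr
    rw [← mul_assoc L L (Submodule.span k (S : Set R))] at h4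
    exact (mul_le_mul' hLL le_rfl :
      L * L * Submodule.span k (S : Set R) ≤ L * Submodule.span k (S : Set R)) h4

/-- A descending sequence of subspaces stops somewhere. -/
theorem exists_succ_eq {k R : Type*} [Field k] [AddCommGroup R] [Module k R]
    [FiniteDimensional k R] (W : ℕ → Submodule k R) (hW : ∀ m, W (m + 1) ≤ W m) :
    ∃ a, W (a + 1) = W a :=
  ⟨Function.argmin (fun m => Module.finrank k (W m)), Submodule.eq_of_le_of_finrank_le (hW _)
    (Function.argmin_le (fun m => Module.finrank k (W m)) _)⟩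

/-- A radical whose nonzero residues are units is nilpotent. -/
theorem exists_pow_eq_bot {k R : Type*} [Field k] [Ring R] [Algebra k R] [FiniteDimensional k R]
    {L J : Submodule k R} {i : R} (hJL : J ≤ L) (hLL : L * L ≤ L) (hJJ : J * J ≤ J)
    (hJLJ : J * L ≤ J) (hiL : i ∈ L) (him : ∀ x ∈ L, i * x = x)
    (hunit : ∀ j ∈ J, ∃ w ∈ L, w * (i - j) = i) : ∃ N : ℕ, J ^ N = ⊥ := by
  have hanti : ∀ m : ℕ, J ^ (m + 1 + 1) ≤ J ^ (m + 1) := fun m => by
    rw [pow_succ J (m + 1), pow_succ J m, mul_assoc]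
    exact mul_le_mul' le_rfl hJJ
  obtain ⟨a, ha⟩ := exists_succ_eq (fun m : ℕ => J ^ (m + 1)) hanti
  have hle : ∀ m : ℕ, J ^ (m + 1) ≤ J := fun m => by
    induction m with
    | zero => rw [zero_add, pow_one]
    | succ m ih => exact le_trans (hanti m) ih
  have hWJ : J ^ (a + 1) ≤ J * J ^ (a + 1) := by rw [← pow_succ', ha]
  exact ⟨a + 1, eq_bot_of_le_rad_mul hJL hLL hJLJ hiL (fun x hx => him x (hJL (hle a hx))) hunit
    (IsNoetherian.noetherian (J ^ (a + 1))) hWJ⟩

/-- The class sums of an element killed by every character vanish. -/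
theorem sum_class_eq_zero {X : RG M G} (hX : ∀ χ : IrrCharacter G, ev (χ : G → ℂ) X = 0) (x : G)
    [DecidablePred fun g : G => IsConj x g] :
    ∑ g ∈ Finset.univ.filter (fun g : G => IsConj x g), X.coeff g = 0 := by
  classical
  haveI := Fintype.ofFinite (IrrCharacter G)
  apply Subtype.ext
  rw [AddSubmonoidClass.coe_finsetSum, ZeroMemClass.coe_zero]
  have hθ : IsClassFunction G (fun g : G => if IsConj x g then (1 : ℂ) else 0) := fun g h => by
    have e : IsConj g (h * g * h⁻¹) := isConj_iff.2 ⟨h, rfl⟩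
    simp only [show IsConj x (h * g * h⁻¹) ↔ IsConj x g from
      ⟨fun h1 => h1.trans e.symm, fun h1 => h1.trans e⟩]
  have h1 := ev_expand hθ X
  simp only [hX, mul_zero, Finset.sum_const_zero] at h1
  rw [Finset.sum_filter]
  refine Eq.trans ?_ h1
  simp only [ev, mul_ite, mul_one, mul_zero]
  rfl

/-- **Commutators of the algebra inside a full corner are commutators of the corner.** -/
theorem mem_commSpan_of_full {k R ι : Type*} [Field k] [Ring R] [Algebra k R] {i e : R}
    (hi : i * i = i) (hie : i * e = i) (hec : ∀ y, e * y = y * e) (S : Finset ι) (A B : ι → R)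
    (hfull : ∑ l ∈ S, A l * i * B l = e) {z : R} (hzi : i * z * i = z)
    (hz : z ∈ commSpan (⊤ : Submodule k R)) : z ∈ commSpan (cornerOf (k := k) i) := by
  classical
  set K := commSpan (cornerOf (k := k) i)
  have hcorner : ∀ y, i * y * i ∈ cornerOf (k := k) i := fun y => ⟨y, rfl⟩
  let Tr : R →ₗ[k] R :=
    ∑ l ∈ S, (LinearMap.mulLeft k (i * B l)).comp (LinearMap.mulRight k (A l * i))
  have hTr : ∀ y, Tr y = ∑ l ∈ S, i * B l * (y * (A l * i)) := fun y => by
    simp [Tr, LinearMap.sum_apply, mul_assoc]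
  have hcut : ∀ x y : R, Tr (x * y) =
      ∑ l ∈ S, ∑ m ∈ S, i * (B l * x * A m) * i * (i * (B m * y * A l) * i) := fun x y => by
    rw [hTr]
    refine Finset.sum_congr rfl fun l _ => ?_
    calc i * B l * (x * y * (A l * i))
        = i * e * (B l * x * y * (A l * i)) := by rw [hie]; simp only [mul_assoc]
      _ = i * (B l * x) * e * (y * (A l * i)) := by
          rw [mul_assoc i e, show B l * x * y * (A l * i) = B l * x * (y * (A l * i)) by
            simp only [mul_assoc], ← mul_assoc e, hec]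
          simp only [mul_assoc]
      _ = i * (B l * x) * (∑ m ∈ S, A m * i * B m) * (y * (A l * i)) := by rw [hfull]
      _ = _ := by
          rw [Finset.mul_sum, Finset.sum_mul]
          refine Finset.sum_congr rfl fun m _ => ?_
          rw [show i * (B l * x * A m) * i * (i * (B m * y * A l) * i) =
            i * (B l * x * A m) * (i * i) * ((B m * y * A l) * i) by simp only [mul_assoc], hi]
          simp only [mul_assoc]
  have hTcomm : commSpan (⊤ : Submodule k R) ≤ K.comap Tr := by
    refine Submodule.span_le.2 ?_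
    rintro _ ⟨x, -, y, -, rfl⟩
    rw [SetLike.mem_coe, Submodule.mem_comap, map_sub, hcut, hcut,
      Finset.sum_comm (f := fun l m => i * (B l * y * A m) * i * (i * (B m * x * A l) * i)),
      ← Finset.sum_sub_distrib]
    refine Submodule.sum_mem _ fun l _ => ?_
    rw [← Finset.sum_sub_distrib]
    exact Submodule.sum_mem _ fun m _ => commutator_mem_commSpan (hcorner _) (hcorner _)
  have hz1 : Tr z - z ∈ K := by
    have hsum : ∑ l ∈ S, i * A l * i * (i * B l * i) = i := by
      rw [Finset.sum_congr rfl (g := fun l => i * (A l * i * B l) * i) fun l _ => by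
        rw [show i * A l * i * (i * B l * i) = i * A l * (i * i) * B l * i by
          simp only [mul_assoc], hi]
        simp only [mul_assoc], ← Finset.sum_mul, ← Finset.mul_sum, hfull, hie, hi]
    have hzr : z * i = z := by rw [← hzi, mul_assoc (i * z), hi]
    have hzl : i * z = z := by
      rw [← hzi, show i * (i * z * i) = i * i * z * i by simp only [mul_assoc], hi]
    have e' : Tr z - z = ∑ l ∈ S, (i * B l * i * (z * (i * A l * i)) -
        z * (i * A l * i) * (i * B l * i)) := by
      rw [Finset.sum_sub_distrib, hTr]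
      congr 1
      · refine Finset.sum_congr rfl fun l _ => ?_
        rw [show i * B l * i * (z * (i * A l * i)) = i * B l * (i * z * i) * (A l * i) by
          simp only [mul_assoc], hzi]
        simp only [mul_assoc]
      · simp only [mul_assoc z, ← Finset.mul_sum, hsum, hzr]
    rw [e']
    refine Submodule.sum_mem _ fun l _ => commutator_mem_commSpan (hcorner _) ?_
    rw [mem_cornerOf hi, ← mul_assoc i z, hzl,
      show z * (i * A l * i) * i = z * (i * A l * (i * i)) by simp only [mul_assoc], hi]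
  simpa using sub_mem (show Tr z ∈ K from hTcomm hz) hz1

/-- Vanishing class sums give commutators. -/
theorem mem_commSpan_of_class_sums {k : Type*} [Field k] (z : MonoidAlgebra k G)
    (hz : ∀ (x : G) [DecidablePred fun g : G => IsConj x g],
      ∑ g ∈ Finset.univ.filter (fun g : G => IsConj x g), z.coeff g = 0) :
    z ∈ commSpan (⊤ : Submodule k (MonoidAlgebra k G)) := by
  classical
  haveI := Fintype.ofFinite (ConjClasses G)
  let rep : ConjClasses G → G := fun C => C.out
  have hrep : ∀ g : G, IsConj g (rep (ConjClasses.mk g)) := fun g =>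
    ConjClasses.mk_eq_mk_iff_isConj.1 (Quotient.out_eq (ConjClasses.mk g)).symm
  have h0 : ∑ g : G, single (rep (ConjClasses.mk g)) (z.coeff g) = 0 := by
    rw [← Finset.sum_fiberwise (Finset.univ : Finset G) ConjClasses.mk]
    refine Finset.sum_eq_zero fun C _ => ?_
    obtain ⟨x, rfl⟩ := ConjClasses.exists_rep C
    rw [Finset.sum_congr rfl (g := fun g => single (rep (ConjClasses.mk x)) (z.coeff g))
      fun g hg => by rw [(Finset.mem_filter.1 hg).2]]
    ext y
    simp only [MonoidAlgebra.coeff_sum, Finsupp.coe_finsetSum, Finset.sum_apply,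
      MonoidAlgebra.coeff_single, Finsupp.single_apply, MonoidAlgebra.coeff_zero,
      Finsupp.coe_zero, Pi.zero_apply]
    split_ifs with hy
    · rw [← hz x]
      refine Finset.sum_congr (Finset.ext fun g => ?_) fun g _ => rfl
      simp only [Finset.mem_filter, Finset.mem_univ, true_and, ConjClasses.mk_eq_mk_iff_isConj]
      exact isConj_comm
    · exact Finset.sum_const_zero
  have hdec : z = ∑ g : G, (single g (z.coeff g) - single (rep (ConjClasses.mk g)) (z.coeff g)) := by
    rw [Finset.sum_sub_distrib, h0, sub_zero]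
    ext g
    simp [MonoidAlgebra.coeff_sum, Finsupp.single_apply]
  rw [hdec]
  refine Submodule.sum_mem _ fun g _ => ?_
  obtain ⟨h, hh⟩ := isConj_iff.1 (hrep g).symm
  have h1 := commutator_mem_commSpan (k := k) (L := (⊤ : Submodule k (MonoidAlgebra k G)))
    (x := single (h * rep (ConjClasses.mk g)) (z.coeff g)) (y := single h⁻¹ (1 : k))
    trivial trivial
  rwa [MonoidAlgebra.single_mul_single, MonoidAlgebra.single_mul_single, one_mul, mul_one, hh,
    inv_mul_cancel_left] at h1

/-- **The images of elements killed by the characters are commutators of the corner.** -/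
theorem redG_mem_commSpan {i e : RG M G} (hii : i * i = i) (hie : i * e = i)
    (hec : ∀ y, e * y = y * e) {S : Finset (RG M G)} {a b : RG M G → RG M G}
    (hfull : ∑ l ∈ S, a l * i * b l = e) {X : RG M G} (hXi : i * X * i = X)
    (hX : ∀ χ : IrrCharacter G, ev (χ : G → ℂ) X = 0) :
    redG G M X ∈ commSpan (cornerOf (k := ResField M) (redG G M i)) := by
  refine mem_commSpan_of_full (e := redG G M e) (by rw [← map_mul, hii]) (by rw [← map_mul, hie])
    (fun y => ?_) S (fun l => redG G M (a l)) (fun l => redG G M (b l)) ?_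
    (by rw [← map_mul, ← map_mul, hXi]) (mem_commSpan_of_class_sums _ fun x _ => ?_)
  · obtain ⟨y, rfl⟩ := redG_surjective (M := M) y
    rw [← map_mul, hec, map_mul]
  · rw [← hfull, map_sum]
    exact Finset.sum_congr rfl fun l _ => by rw [map_mul, map_mul]
  · have h1 := congrArg (red M) (sum_class_eq_zero hX x)
    rw [map_sum, map_zero] at h1
    rw [← h1]
    exact Finset.sum_congr rfl fun g _ => by rw [redG, coeff_mapRingHom]

end Cfsg.Agent.Lib.SmallBlocks
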